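import Mathlib
import Cfsg.Agent.Lib.AmF3.Setup
import Cfsg.Agent.Lib.AmF3.Model
import Cfsg.Agent.Lib.SL2Elt.Order
import Cfsg.Agent.S3331

/-!
# The completions of the amalgam of two groups `3² : GL₂(3)`

The Feit–Thompson theorem on self-centralising subgroups of order three, applied to
`C(t) / ⟨t⟩` for an involution `t`, gives the one missing relation.
-/

set_option autoImplicit false
set_option maxRecDepth 100000

namespace H20.AF

open H18.TC Subgroup Cfsg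
open scoped MatrixGroups

theorem psl_conj {a b : PSL(2, ZMod 7)} (a2 : a * a = 1) (a1 : a ≠ 1) (b2 : b * b = 1)
    (b1 : b ≠ 1) : IsConj a b := by
  have h4 : (0 : ZMod 7) ^ 2 ≠ 4 := by decide
  have : Fact (Nat.Prime 7) := ⟨by norm_num⟩
  have key : ∀ a : PSL(2, ZMod 7), a * a = 1 → a ≠ 1 →
      IsConj (H64.SL2.proj (H64.SL2.comp 0)) a := fun a a2 a1 => by
    obtain ⟨a, rfl⟩ := H64.SL2.proj_surjective a
    have h := (H64.SL2.mem_center_or_tr_eq_zero_of_sq (H64.SL2.proj_eq_one_iff.1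
      (by rw [map_mul, a2]))).resolve_left fun e => a1 (H64.SL2.proj_eq_one_iff.2 e)
    exact H64.SL2.proj.map_isConj (h ▸ H64.SL2.isConj_comp (by rw [h]; exact h4))
  exact (key a a2 a1).symm.trans (key b b2 b1)

theorem cube_of_fpf {X : Type*} [Group X] [Finite X] {N : Subgroup X} (hN : N.Normal) {z n : X}
    (z3 : z ^ 3 = 1) (h : ∀ m ∈ N, Commute m z → m = 1) (hn : n ∈ N) : (n * z) ^ 3 = 1 := by
  let f : N → N := fun m => ⟨m * (z * m⁻¹ * z⁻¹), N.mul_mem m.2 (hN.conj_mem _ (N.inv_mem m.2) z)⟩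
  have hf : Function.Injective f := fun m m' e => by
    have e' : (m : X) * (z * (m : X)⁻¹ * z⁻¹) = m' * (z * (m' : X)⁻¹ * z⁻¹) := congrArg Subtype.val e
    refine Subtype.ext (inv_mul_eq_one.1 (h _ (N.mul_mem (N.inv_mem m'.2) m.2) ?_)).symm
    show _ = _
    calc (m' : X)⁻¹ * m * z = (m' : X)⁻¹ * (m * (z * (m : X)⁻¹ * z⁻¹)) * z * m := by group
      _ = _ := by rw [e']; group
  obtain ⟨m, e⟩ := Finite.surjective_of_injective hf ⟨n, hn⟩
  have e' : (m : X) * (z * (m : X)⁻¹ * z⁻¹) = n := congrArg Subtype.val e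
  rw [show n * z = m * z * (m : X)⁻¹ by rw [← e']; group, conj_pow, z3]
  group

variable {G : Type*} [Group G]

theorem cube_mem [Finite G] {t z a k l : G} (t2 : t * t = 1) (t1 : t ≠ 1) (z3 : z ^ 3 = 1)
    (z1 : z ≠ 1) (zt : Commute t z)
    (hc : ∀ c, Commute c z → Commute t c → c ∈ zpowers z ∨ c * t ∈ zpowers z)
    (a2 : a * a = 1) (a1 : a ≠ 1) (a0 : a ≠ t) (ca : Commute t a) (hk : k ^ 4 = t)
    (hl : l ^ 4 = t) : (k ^ 2 * l ^ 2 * z) ^ 3 = 1 ∨ (k ^ 2 * l ^ 2 * z) ^ 3 = t := by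
  have : Fact (Nat.Prime 3) := ⟨Nat.prime_three⟩
  let C := centralizer ({t} : Set G)
  have mC : ∀ {c}, Commute t c → c ∈ C := fun h => mem_centralizer_singleton_iff.2 h.symm.eq
  have cC : ∀ c : C, Commute t c := fun c => (mem_centralizer_singleton_iff.1 c.2).symm
  let τ : C := ⟨t, mC (Commute.refl t)⟩
  have : (zpowers τ).Normal := ⟨fun m ⟨n, e⟩ c => ⟨n, by
    have : Commute (c : C) τ := Subtype.ext (cC c).symm.eq
    rw [← e, (this.zpow_right n).eq, mul_inv_cancel_right]⟩⟩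
  let π := QuotientGroup.mk' (zpowers τ)
  have πτ : π τ = 1 := (QuotientGroup.eq_one_iff _).2 (mem_zpowers τ)
  have ker : ∀ c : C, π c = 1 → (c : G) = 1 ∨ (c : G) = t := fun c h => by
    obtain ⟨n, e⟩ := (QuotientGroup.eq_one_iff _).1 h
    have e' : t ^ n = c := congrArg Subtype.val e
    have h2 : t ^ (2 : ℤ) = 1 := by rw [zpow_two, t2]
    rw [zpow_eq_zpow_emod n h2] at e'
    rcases Int.emod_two_eq_zero_or_one n with h | h <;> rw [h] at e'
    · exact .inl (by rw [← e', zpow_zero])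
    · exact .inr (by rw [← e', zpow_one])
  have t3 : t ^ 3 = t := by rw [pow_three, t2, mul_one]
  let ζ : C := ⟨z, mC zt⟩
  have ζ3 : π ζ ^ 3 = 1 := by rw [← map_pow, show ζ ^ 3 = 1 from Subtype.ext z3, map_one]
  have ζ1 : π ζ ≠ 1 := fun h => (ker ζ h).elim z1 fun e => t1 (by
    rw [← t3, ← show z = t from e, z3])
  have cen : ∀ c, Commute c (π ζ) → c ∈ zpowers (π ζ) := fun c h => by
    obtain ⟨c, rfl⟩ := QuotientGroup.mk'_surjective _ c
    have h1 : Commute (c : G) z := by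
      rcases ker (c * ζ * c⁻¹ * ζ⁻¹) (by
        rw [map_mul, map_mul, map_mul, map_inv, map_inv]
        exact commutatorElement_eq_one_iff_commute.2 h) with e | e
      · exact commutatorElement_eq_one_iff_commute.1 e
      · refine absurd ?_ t1
        have e' : (c : G) * z * (c : G)⁻¹ = t * z := mul_inv_eq_iff_eq_mul.1 e
        have := congrArg (· ^ 3) e'
        simp only [conj_pow, z3, zt.mul_pow, t3] at this
        simpa using this.symm
    rcases hc c h1 (cC c) with ⟨n, e⟩ | ⟨n, e⟩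
    · exact ⟨n, by rw [show c = ζ ^ n from Subtype.ext e.symm]; exact (map_zpow π ζ n).symm⟩
    · refine ⟨n, ?_⟩
      show π ζ ^ n = π c
      rw [← map_zpow, show ζ ^ n = c * τ from Subtype.ext e, map_mul, πτ, mul_one]
  have el : ∀ {k : G}, k ^ 4 = t → ∃ κ : C, (κ : G) = k ∧ π κ ^ 4 = 1 := fun {k} hk =>
    ⟨⟨k, mC (hk ▸ (Commute.refl k).pow_left 4)⟩, rfl, by
      rw [← map_pow, ← πτ]; exact congrArg π (Subtype.ext hk)⟩
  obtain ⟨κ, rfl, κ4⟩ := el hk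
  obtain ⟨μ, rfl, μ4⟩ := el hl
  have fin : ∀ (N : Subgroup (C ⧸ zpowers τ)) (hN : N.Normal), (∀ m ∈ N, m ^ 3 = 1 → m = 1) →
      (∀ y : (C ⧸ zpowers τ) ⧸ N, y ^ 4 = 1 → y ^ 2 = 1) →
      ((κ : G) ^ 2 * μ ^ 2 * z) ^ 3 = 1 ∨ ((κ : G) ^ 2 * μ ^ 2 * z) ^ 3 = t := fun N hN h1 h2 => by
    have m : ∀ x, x ^ 4 = 1 → x ^ 2 ∈ N := fun x h => (QuotientGroup.eq_one_iff _).1
      (h2 (QuotientGroup.mk x) (by rw [← QuotientGroup.mk_pow, h]; rfl))
    refine ker ((κ ^ 2 * μ ^ 2 * ζ) ^ 3) ?_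
    rw [map_pow, map_mul, map_mul, map_pow, map_pow]
    refine cube_of_fpf hN ζ3 (fun x hx c => h1 x hx ?_) (N.mul_mem (m _ κ4) (m _ μ4))
    obtain ⟨n, rfl⟩ := cen x c
    rw [← zpow_natCast, ← zpow_mul, mul_comm, zpow_mul, zpow_natCast, ζ3, one_zpow]
  have tr : ∀ {Y Y' : Type _} [Group Y] [Group Y'] (e : Y ≃* Y'),
      (∀ y : Y', y ^ 4 = 1 → y ^ 2 = 1) → ∀ y : Y, y ^ 4 = 1 → y ^ 2 = 1 := fun e h y hy =>
    e.injective (by rw [map_pow, map_one]; exact h _ (by rw [← map_pow, hy, map_one]))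
  rcases Cfsg.Agent.S3331.result (zpowers (π ζ))
    (by rw [Nat.card_zpowers, orderOf_eq_prime ζ3 ζ1])
    (le_antisymm (fun c h => cen c (h _ (mem_zpowers _)).symm)
      fun _ ⟨n, e⟩ _ ⟨m, e'⟩ => e ▸ e' ▸ (zpow_mul_comm _ _ _)) with
    ⟨N, hN, -, h1, h2⟩ | ⟨N, hN, -, h1, ⟨e⟩⟩ | ⟨⟨e⟩⟩
  · refine fin N hN (fun m hm h => orderOf_eq_one_iff.1 (Nat.eq_one_of_dvd_coprimes h1
      (N.orderOf_dvd_natCard hm) (orderOf_dvd_of_pow_eq_one h))) ?_
    rcases h2 with h2 | ⟨⟨e⟩⟩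
    · intro y hy
      have := pow_card_eq_one' (x := y)
      rw [h2] at this
      rw [pow_succ, this, one_mul] at hy
      rw [hy, one_pow]
    · exact tr e (by decide)
  · refine fin N hN (fun m hm h => by rwa [pow_succ, h1 m hm, one_mul] at h) (tr e fun y hy => ?_)
    have k : ∀ y : Equiv.Perm (Fin 5), Equiv.Perm.sign y = 1 → y ^ 4 = 1 → y ^ 2 = 1 := by
      decide +kernel
    exact Subtype.ext (k y y.2 (congrArg Subtype.val hy))
  · exfalso
    let α : C := ⟨a, mC ca⟩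
    have k4 : (κ : G) ^ 2 * κ ^ 2 = t := by rw [← pow_add]; exact hk
    obtain ⟨c, hc⟩ := isConj_iff.1 (psl_conj (a := e (π α)) (b := e (π (κ ^ 2)))
      (by rw [← map_mul, ← map_mul, show α * α = 1 from Subtype.ext a2, map_one, map_one])
      (fun h => (ker α (e.map_eq_one_iff.1 h)).elim a1 a0)
      (by rw [← map_mul, map_pow, ← pow_add, κ4, map_one])
      (fun h => (ker _ (e.map_eq_one_iff.1 h)).elim
        (fun h => t1 (by rw [← k4, show (κ : G) ^ 2 = 1 from h, mul_one]))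
        (fun h => t1 (by rw [← k4, show (κ : G) ^ 2 = t from h, t2]))))
    obtain ⟨c, rfl⟩ := e.surjective c
    obtain ⟨c, rfl⟩ := QuotientGroup.mk'_surjective _ c
    rw [← map_inv, ← map_mul, ← map_mul, e.apply_eq_iff_eq] at hc
    have s : ((c : G) * a * (c : G)⁻¹) * (c * a * (c : G)⁻¹) = 1 := by
      rw [conj_mul, a2]; group
    rcases ker (κ ^ 2 * (c * α * c⁻¹)⁻¹) (by
      rw [map_mul, map_inv, map_mul, map_mul, map_inv, mul_inv_eq_one]; exact hc.symm) with h | h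
    · exact t1 (by rw [← k4, show (κ : G) ^ 2 = c * a * (c : G)⁻¹ from mul_inv_eq_one.1 h, s])
    · have h' : (κ : G) ^ 2 = t * (c * a * (c : G)⁻¹) := mul_inv_eq_iff_eq_mul.1 h
      refine t1 ?_
      have q : Commute ((c : G) * a * (c : G)⁻¹) t := (cC (c * α * c⁻¹)).symm
      rw [← k4, h', q.mul_mul_mul_comm, t2, one_mul, s]

variable {A B V W : Subgroup G} {z x y a b : G} {g : ℕ → G}

theorem Sys.io_eq {p : ℕ → P → P} {l : List ℕ} (T : Sys A V z x a g p l) (w : List ℕ) (s : P)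
    (h : (∀ i ∈ w, i ∈ l) ∧ ∀ q, evp p w q = q + s) : ev g w = io z x s :=
  T.S.eq_of_rep T.B T.I (T.ev_mem h.1) (T.S.le (T.B.mem s)) (T.rep_ev h.1) (T.S.rep_io T.B T.I s) h.2

theorem Sys.ne {p : ℕ → P → P} {l : List ℕ} (T : Sys A V z x a g p l) (w w' : List ℕ)
    (h : (∀ i ∈ w, i ∈ l) ∧ (∀ i ∈ w', i ∈ l) ∧ ¬ ∀ q, evp p w q = evp p w' q) :
    ev g w ≠ ev g w' := fun e =>
  h.2.2 (T.S.rep_unique T.B (T.rep_ev h.1) (e ▸ T.rep_ev h.2.1))

set_option synthInstance.maxSize 1000 in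
theorem final [Finite G] (TA : Sys A V z x a g pA [0, 1, 2, 3, 4, 5])
    (TB : Sys B W z y b g pB [0, 1, 3, 4, 5, 6]) (h7 : ∀ i, 7 ≤ i → g i = 1)
    (hN : ∀ c, Commute c z → c ∈ A) (top : A ⊔ B = ⊤) :
    Spor.IsoM12 G ∨ Nonempty (G ≃* PSL(3, ZMod 3)) := by
  have ez : ev g [3, 0] = z := (TA.io_eq _ (1, 0) (by decide)).trans (io_z _ _)
  have ex : ev g [4, 0] = x := (TA.io_eq _ (0, 1) (by decide)).trans (io_x _ _)
  have ey : ev g [5, 1] = y := (TB.io_eq _ (0, 1) (by decide)).trans (io_x _ _)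
  have : Nontrivial G := ⟨z, 1, TA.B.z1⟩
  have sq : ∀ i, g i * g i = 1 := fun i => by
    by_cases h : 7 ≤ i
    · rw [h7 i h, mul_one]
    have e : ev g [i, i] = g i * g i := by simp [ev]
    rw [← e]
    by_cases h6 : i = 6
    · subst h6; exact TB.rel (by decide)
    · have k : ∀ i < 6, (∀ j ∈ [i, i], j ∈ [0, 1, 2, 3, 4, 5]) ∧ ∀ q, evp pA [i, i] q = q := by
        decide
      exact TA.rel (k i (by omega))
  have sat : ∀ {rels : List (List ℕ)} (R : List ℕ), ev g R = 1 →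
      (∀ r ∈ rels, r = R ∨ ((∀ i ∈ r, i ∈ [0, 1, 2, 3, 4, 5]) ∧ ∀ q, evp pA r q = q) ∨
        ((∀ i ∈ r, i ∈ [0, 1, 3, 4, 5, 6]) ∧ ∀ q, evp pB r q = q)) → Sat g 7 rels := fun R e h =>
    ⟨fun i => eq_inv_of_mul_eq_one_left (sq i), h7 7 le_rfl, fun r hr =>
      (h r hr).elim (fun e' => e' ▸ e) fun h => h.elim TA.rel TB.rel⟩
  have tp : gsub g [0, 1, 2, 3, 4, 5, 6] = ⊤ := by
    rw [eq_top_iff, ← top]
    exact sup_le
      (TA.le (fun i hi => mem_gsub g (by revert i; decide)) (ez ▸ ev_mem_gsub g (by decide))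
        (ex ▸ ev_mem_gsub g (by decide)) 
          [[], [], [], [], [], [], [], [], [], [], [], [], [2], [2, 5, 1], [2, 1, 5], [1, 2], [0,
          2, 5], [1, 2, 5, 1], [], [], [], [2, 1], [2, 1, 5, 1], [2, 5], [0, 2], [1, 2, 5], [0, 2,
          5, 1], [], [], [1], [], [2, 5, 1, 2], [0, 2, 5, 2], [], [2, 1, 5, 2], [1, 2, 5, 1, 2],
          [], [5, 1], [1, 5, 1], [5, 1, 2], [], [5, 1, 2, 5], [1, 5, 1, 2], [1, 5, 1, 2, 5], [],
          [], [1, 5], [5], [0, 5, 2], [2, 5, 1, 2, 5], [], [0, 1, 5, 2], [], [1, 2, 5, 1, 2, 5],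
          [], [0, 1], [0], [], [1, 2, 5, 2, 1], [1, 2, 5, 2], [], [2, 5, 2], [2, 5, 2, 1], [], [0,
          5], [0, 1, 5], [1, 5, 2], [1, 2, 5, 2, 1, 5], [], [5, 2], [], [2, 5, 2, 1, 5], [], [0,
          1, 5, 1], [0, 5, 1], [1, 5, 2, 1], [], [1, 5, 2, 1, 5], [5, 2, 1], [5, 2, 1, 5], []]
         (by decide +kernel))
      (TB.le (fun i hi => mem_gsub g (by revert i; decide)) (ez ▸ ev_mem_gsub g (by decide))
        (ey ▸ ev_mem_gsub g (by decide)) 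
          [[], [], [], [], [], [], [], [], [], [], [], [], [6], [6, 0, 4], [6, 4, 0], [0, 6], [0,
          6, 4, 0], [1, 6, 4], [], [], [], [6, 0], [6, 4], [6, 0, 4, 0], [1, 6], [1, 6, 4, 0], [0,
          6, 4], [], [], [0], [], [0, 4, 6, 4], [0, 6, 4, 0, 6], [], [6, 4, 0, 6], [4, 6, 4], [],
          [0, 4], [4], [0, 4, 6], [], [0, 6, 4, 0, 6, 4], [4, 6], [6, 4, 0, 6, 4], [], [], [4, 0],
          [0, 4, 0], [0, 4, 6, 0], [0, 4, 6, 0, 4], [], [4, 6, 0], [], [4, 6, 0, 4], [], [0, 1],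
          [1], [], [6, 4, 6], [6, 4, 6, 0], [], [0, 6, 4, 6, 0], [0, 6, 4, 6], [], [0, 1, 4, 0],
          [1, 4, 0], [4, 0, 6], [4, 0, 6, 4], [], [0, 4, 0, 6], [], [0, 4, 0, 6, 4], [], [1, 4],
          [0, 1, 4], [1, 4, 6], [], [6, 4, 6, 0, 4], [0, 1, 4, 6], [0, 6, 4, 6, 0, 4], []]
         (by decide +kernel))
  have cj : ∀ i w, ev g (i :: (w ++ [i])) = g i * ev g w * (g i)⁻¹ := fun i w => by
    rw [ev_cons, ev_append, ← eq_inv_of_mul_eq_one_left (sq i)]; simp [ev]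
  have pw : ∀ w n, ev g w ^ n = ev g (rep n w) := fun w n => (ev_rep g n w).symm
  have cm : ∀ w w', ev g (w ++ w') = ev g (w' ++ w) → Commute (ev g w) (ev g w') := fun w w' h => by
    rwa [ev_append, ev_append, eq_comm] at h
  have k2 : ev g (6 :: ([2, 5, 1, 2, 5] ++ [6])) ^ 2 = ev g (6 :: ([1, 2] ++ [6])) := by
    rw [cj, cj, conj_pow, pw, TA.eq _ [1, 2] (by decide)]
  have l2 : ev g (2 :: ([0, 4, 0, 6, 4] ++ [2])) ^ 2 = ev g (2 :: ([0, 6] ++ [2])) := by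
    rw [cj, cj, conj_pow, pw, TB.eq _ [0, 6] (by decide)]
  have k4 : ev g (6 :: ([2, 5, 1, 2, 5] ++ [6])) ^ 4 = ev g [1, 0] := by
    rw [cj, conj_pow, pw, TA.eq _ [0] (by decide), ← cj]; exact TB.eq _ _ (by decide)
  have l4 : ev g (2 :: ([0, 4, 0, 6, 4] ++ [2])) ^ 4 = ev g [1, 0] := by
    rw [cj, conj_pow, pw, TB.eq _ [1] (by decide), ← cj]; exact TA.eq _ _ (by decide)
  have t2 : ev g [1, 0] * ev g [1, 0] = 1 := by rw [← ev_append]; exact TA.rel (by decide)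
  have := cube_mem (a := ev g [0]) t2 (TA.ne _ [] (by decide)) (TA.S.cube z TA.B.zm) TA.B.z1
    (ez ▸ cm _ _ (TA.eq _ _ (by decide))) (fun c h1 h2 => ?_)
    (by rw [← ev_append]; exact TA.rel (by decide)) (TA.ne _ [] (by decide))
    (TA.ne _ _ (by decide)) (cm _ _ (TA.eq _ _ (by decide))) k4 l4
  · rw [k2, l2, ← ez, ← ev_append, ← ev_append, pw] at this
    rcases this with h | h
    · exact .inr (isoL (sat _ h (by decide +kernel)) tp)
    · refine .inl (isoM (sat ([1, 0] ++ _) (by rw [ev_append, h, t2]) (by decide +kernel)) tp)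
  · obtain ⟨m, s, hm, r⟩ := TA.S.exists_rep TA.B TA.I (hN c h1)
    have rz := TA.rep_ev (w := [3, 0]) (by decide)
    have rt := TA.rep_ev (w := [1, 0]) (by decide)
    have h1' : Commute c (ev g [3, 0]) := ez ▸ h1
    have e1 := TA.S.rep_unique TA.B (r.mul rz) (h1'.eq ▸ rz.mul r)
    have e2 := TA.S.rep_unique TA.B (r.mul rt) (h2.eq ▸ rt.mul r)
    have k : ∀ (m : P × P) (s : P), det m ≠ 0 →
        (∀ q, aff m s (evp pA [3, 0] q) = evp pA [3, 0] (aff m s q)) →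
        (∀ q, aff m s (evp pA [1, 0] q) = evp pA [1, 0] (aff m s q)) →
        ∃ n < 3, (∀ q, aff m s q = evp pA (rep n [3, 0]) q) ∨
          ∀ q, aff m s (evp pA [1, 0] q) = evp pA (rep n [3, 0]) q := by decide +kernel
    obtain ⟨n, hn, h⟩ := k m s hm e1 e2
    have hw : ∀ i ∈ rep n [3, 0], i ∈ [0, 1, 2, 3, 4, 5] := by clear h; revert n; decide
    have mz : ev g (rep n [3, 0]) ∈ zpowers z := by
      rw [← pw, ez]; exact pow_mem (mem_zpowers z) n
    refine h.imp (fun h => ?_) fun h => ?_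
    · rwa [TA.S.eq_of_rep TA.B TA.I (hN c h1) (TA.ev_mem hw) r (TA.rep_ev hw) h]
    · rwa [TA.S.eq_of_rep TA.B TA.I (A.mul_mem (hN c h1) (TA.ev_mem (by decide))) (TA.ev_mem hw)
        (r.mul rt) (TA.rep_ev hw) h]

theorem Am.iso [Finite G] (M : Am A B V W) (top : A ⊔ B = ⊤) :
    Spor.IsoM12 G ∨ Nonempty (G ≃* PSL(3, ZMod 3)) := by
  obtain ⟨z, x, y, a, b, g, TA, TB, h7, hN⟩ := M.exists_sys
  exact final TA TB h7 hN top

end H20.AF
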